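import Groth.Agent.SDiv28.Denominators
import Groth.Agent.SDiv28.BlowUp
import Groth.Agent.ProjLib.IdealComap
import Groth.Agent.FlatMor12.IdealModGen
import Groth.Agent.PicLib.PullbackGen
import Groth.Agent.PicLib.FormalGen
import Groth.Agent.AmpleLib.Tensor
import Groth.Agent.Coherent.FiniteType

/-!
# Blowing up the ideal of denominators: `b^* L = O(D - E)`
-/

set_option autoImplicit false
set_option linter.style.haveILetI false
set_option linter.unusedSectionVars false
set_option backward.isDefEq.respectTransparency.types false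
set_option maxHeartbeats 1000000

universe u

open CategoryTheory CategoryTheory.Limits AlgebraicGeometry TopologicalSpace Opposite
open Groth.Agent.Coherent Groth.Agent.PicLib Groth.Agent.AmpleLib Groth.Agent.SDiv28

noncomputable section

namespace Groth.Agent.DenomTwist28

variable {X : Scheme.{u}} (L : X.Modules) (s : Γ(Mero.merMod L, ⊤))

/-- `f • s` is the image of `m`. -/
def Wit (U : X.Opens) (f : Γ(X, U)) (m : Γ(L, U)) : Prop :=
  ∀ y : U, X.presheaf.germ U y.1 y.2 f • s.1 ⟨y.1, Opens.mem_top y.1⟩ =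
    LocalizedModule.mkLinearMap (Mero.regStalk X y.1) _ (L.presheaf.germ U y.1 y.2 m)

variable {L s}

theorem Wit.mem {U : X.Opens} {f : Γ(X, U)} {m : Γ(L, U)} (h : Wit L s U f m) : f ∈ Mero.denomIdeal L s U :=
  ⟨m, h⟩

theorem Wit.res {U V : X.Opens} (h : V ≤ U) {f : Γ(X, U)} {m : Γ(L, U)} (hw : Wit L s U f m) :
    Wit L s V (PicLib.res h f) (resM L h m) := fun y => by
  rw [TopCat.Presheaf.germ_res_apply, TopCat.Presheaf.germ_res_apply]
  exact hw ⟨y.1, h y.2⟩

theorem Wit.add {U : X.Opens} {f f' : Γ(X, U)} {m m' : Γ(L, U)} (h : Wit L s U f m) (h' : Wit L s U f' m') :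
    Wit L s U (f + f') (m + m') := fun y => by
  rw [map_add, map_add, add_smul, map_add, h y, h' y]

theorem Wit.zero {U : X.Opens} : Wit L s U 0 0 := fun y => by
  rw [map_zero, map_zero, zero_smul, map_zero]

theorem Wit.smul {U : X.Opens} (a : Γ(X, U)) {f : Γ(X, U)} {m : Γ(L, U)} (h : Wit L s U f m) :
    Wit L s U (a * f) (a • m) := fun y => by
  rw [map_mul, mul_smul, h y, QCohLoc.germ_smul', map_smul]

theorem Wit.unique (hL : PicF.IsInvertible L) {U : X.Opens} {f : Γ(X, U)} {m m' : Γ(L, U)}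
    (h : Wit L s U f m) (h' : Wit L s U f m') : m = m' :=
  TopCat.Presheaf.section_ext (⟨L.presheaf, L.isSheaf⟩ : TopCat.Sheaf Ab X) U m m' fun y hy =>
    mkLinearMap_injective_of_isInvertible hL y ((h ⟨y, hy⟩).symm.trans (h' ⟨y, hy⟩))

variable (L s)

/-- The ideal `(s · I) : L`. -/
def twistIdeal (U : X.Opens) : Ideal Γ(X, U) where
  carrier := {g | ∀ m : Γ(L, U), ∃ f, Wit L s U f (g • m)}
  zero_mem' m := ⟨0, by rw [zero_smul]; exact Wit.zero⟩
  add_mem' := by
    intro a b ha hb m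
    obtain ⟨f, hf⟩ := ha m
    obtain ⟨f', hf'⟩ := hb m
    exact ⟨f + f', by rw [add_smul]; exact hf.add hf'⟩
  smul_mem' := by
    intro c a ha m
    obtain ⟨f, hf⟩ := ha m
    exact ⟨c * f, by rw [smul_eq_mul, mul_smul]; exact hf.smul c⟩

variable {L s}

theorem map_twistIdeal_basicOpen (hL : PicF.IsInvertible L) (U : X.affineOpens) (g : Γ(X, U)) :
    (twistIdeal L s U.1).map (X.presheaf.map (homOfLE <| X.basicOpen_le g).op).hom =
      twistIdeal L s (X.affineBasicOpen g).1 := by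
  classical
  haveI := U.2.isLocalization_basicOpen g
  haveI : Coh.IsQCoh L := AmpleLib.isQCoh_of_isInvertible hL
  let ρ := PicLib.res (X.basicOpen_le g)
  have hunit : ∀ n : ℕ, IsUnit (ρ (g ^ n)) := fun n =>
    IsLocalization.map_units Γ(X, X.basicOpen g) (⟨g ^ n, n, rfl⟩ : Submonoid.powers g)
  refine le_antisymm (Ideal.map_le_iff_le_comap.2 fun a ha => ?_) fun a' ha' => ?_
  · intro m'
    obtain ⟨n, t, ht⟩ := qcoh_exists_pow_smul U.2 L g m'
    obtain ⟨v, hv⟩ := (hunit n).exists_left_inv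
    obtain ⟨f, hf⟩ := ha t
    refine ⟨v * ρ f, ?_⟩
    have h1 := (hf.res (X.basicOpen_le g)).smul v
    rw [resM_smul, ht, smul_smul, smul_smul] at h1
    have e : v * (ρ a * ρ (g ^ n)) = ρ a := by rw [mul_left_comm, hv, mul_one]
    rw [← e]
    rw [mul_assoc] at h1
    exact h1
  · obtain ⟨⟨c, ⟨_, N, rfl⟩⟩, hc⟩ := IsLocalization.surj (Submonoid.powers g) (S := Γ(X, X.basicOpen g)) a'
    have hc' : ρ c = a' * ρ (g ^ N) := hc.symm
    have hρc : ρ c ∈ twistIdeal L s (X.basicOpen g) := by rw [hc']; exact Ideal.mul_mem_right _ _ ha'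
    haveI : Module.Finite Γ(X, U.1) Γ(L, U.1) :=
      ((Coherent.isCoh_iff_finite_sections L).1 (PicLib.isCoh_of_isInvertible hL)).2 U.1 U.2
    obtain ⟨T, hT⟩ := Module.Finite.fg_top (R := Γ(X, U.1)) (M := Γ(L, U.1))
    have key : ∀ t : Γ(L, U.1), ∃ n : ℕ, ∃ f, Wit L s U.1 f ((g ^ n * c) • t) := fun t => by
      obtain ⟨f', hf'⟩ := hρc (resM L (X.basicOpen_le g) t)
      obtain ⟨⟨f₀, ⟨_, M, rfl⟩⟩, hf₀⟩ :=
        IsLocalization.surj (Submonoid.powers g) (S := Γ(X, X.basicOpen g)) f'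
      have hw0 : Wit L s (X.basicOpen g) (ρ f₀) (resM L (X.basicOpen_le g) ((g ^ M * c) • t)) := by
        have h1 := hf'.smul (ρ (g ^ M))
        rw [resM_smul]
        rw [smul_smul, ← map_mul] at h1
        rw [show ρ f₀ = ρ (g ^ M) * f' from (mul_comm _ _).trans hf₀ |>.symm]
        exact h1
      obtain ⟨n, hn⟩ := exists_pow_mul_mem_denomIdeal s hL U.2 g f₀ hw0.mem
      obtain ⟨m, hm⟩ := hn
      have hm' : Wit L s U.1 (g ^ n * f₀) m := hm
      have e : resM L (X.basicOpen_le g) (m - (g ^ n * (g ^ M * c)) • t) = 0 := by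
        rw [map_sub, sub_eq_zero]
        refine Wit.unique hL (hm'.res (X.basicOpen_le g)) ?_
        have h2 := hw0.smul (ρ (g ^ n))
        rw [← map_mul, resM_smul, smul_smul, ← map_mul] at h2
        rw [resM_smul]
        exact h2
      obtain ⟨k, hk⟩ := qcoh_exists_pow_smul_eq_zero U.2 L g _ e
      rw [smul_sub, sub_eq_zero, smul_smul] at hk
      refine ⟨k + n + M, g ^ k * (g ^ n * f₀), ?_⟩
      have h3 := hm'.smul (g ^ k)
      rw [hk] at h3
      rw [show g ^ (k + n + M) * c = g ^ k * (g ^ n * (g ^ M * c)) by ring]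
      exact h3
    choose n f hf using key
    let K := T.sup n
    have hmem : g ^ K * c ∈ twistIdeal L s U.1 := by
      intro t
      have ht : t ∈ Submodule.span Γ(X, U.1) (T : Set Γ(L, U.1)) := hT ▸ Submodule.mem_top
      induction ht using Submodule.span_induction with
      | zero => exact ⟨0, by rw [smul_zero]; exact Wit.zero⟩
      | add a b _ _ ha hb =>
        obtain ⟨fa, hfa⟩ := ha
        obtain ⟨fb, hfb⟩ := hb
        exact ⟨fa + fb, by rw [smul_add]; exact hfa.add hfb⟩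
      | smul r a _ ha =>
        obtain ⟨fa, hfa⟩ := ha
        exact ⟨r * fa, by rw [smul_comm]; exact hfa.smul r⟩
      | mem a ha =>
        obtain ⟨d, hd⟩ := Nat.exists_eq_add_of_le (Finset.le_sup (f := n) (Finset.mem_coe.1 ha))
        refine ⟨g ^ d * f a, ?_⟩
        rw [show g ^ K * c = g ^ d * (g ^ n a * c) by
          rw [show g ^ K = g ^ (n a + d) from congrArg (g ^ ·) hd]; ring, mul_smul]
        exact (hf a).smul _
    have h1 := Ideal.mem_map_of_mem (X.presheaf.map (homOfLE <| X.basicOpen_le g).op).hom hmem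
    rw [map_mul] at h1
    have h2 := (Ideal.unit_mul_mem_iff_mem _ (hunit K)).1 h1
    rw [show (X.presheaf.map (homOfLE <| X.basicOpen_le g).op).hom c = a' * ρ (g ^ N) from hc'] at h2
    exact (Ideal.mul_unit_mem_iff_mem _ (hunit N)).1 h2

/-- The ideal sheaf `(s · I) : L`. -/
def twistSheaf (hL : PicF.IsInvertible L) : X.IdealSheafData where
  ideal U := twistIdeal L s U.1
  map_ideal_basicOpen U g := map_twistIdeal_basicOpen hL U g

theorem support_compl_eq_domain (I : X.IdealSheafData) (hI : ∀ V : X.affineOpens, I.ideal V = Mero.denomIdeal L s V.1) :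
    ((I.support.compl : X.Opens) : Set X) = Mero.domain L s := by
  ext x
  constructor
  · intro hx
    obtain ⟨U, hU, hxU, -⟩ := exists_isAffineOpen_mem_and_subset (x := x) (U := (⊤ : X.Opens)) trivial
    have hx' : x ∉ X.zeroLocus (U := U) (I.ideal ⟨U, hU⟩) := fun h =>
      hx ((Scheme.IdealSheafData.mem_support_iff_of_mem (U := ⟨U, hU⟩) hxU).2 h)
    rw [Scheme.mem_zeroLocus_iff] at hx'
    push Not at hx'
    obtain ⟨f, hf, hxf⟩ := hx'
    rw [SetLike.mem_coe, hI ⟨U, hU⟩] at hf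
    obtain ⟨m, hm⟩ := hf
    have hu : IsUnit (PicLib.res (X.basicOpen_le f) f) := RingedSpace.isUnit_res_basicOpen X.toRingedSpace f
    obtain ⟨v, hv⟩ := hu.exists_left_inv
    have hw := (Wit.res (X.basicOpen_le f) (show Wit L s U f m from hm)).smul v
    rw [hv] at hw
    refine ⟨X.basicOpen f, hxf, v • resM L (X.basicOpen_le f) m, fun y => ?_⟩
    have := hw y
    rw [map_one, one_smul] at this
    exact this
  · rintro ⟨V, hxV, m, hm⟩ hx
    obtain ⟨U, hU, hxU, hUV⟩ := exists_isAffineOpen_mem_and_subset (x := x) (U := V) hxV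
    have h1 : Wit L s U 1 (resM L hUV m) := fun y => by
      rw [map_one, one_smul, TopCat.Presheaf.germ_res_apply]
      exact hm ⟨y.1, hUV y.2⟩
    have hx' := (Scheme.IdealSheafData.mem_support_iff_of_mem (U := ⟨U, hU⟩) hxU).1 hx
    rw [Scheme.mem_zeroLocus_iff] at hx'
    refine hx' 1 (by rw [SetLike.mem_coe, hI ⟨U, hU⟩]; exact h1.mem) ?_
    rw [Scheme.basicOpen_of_isUnit _ isUnit_one]
    exact hxU

/-- A frame in which `d • s = c • e`. -/
structure Frame (L : X.Modules) (s : Γ(Mero.merMod L, ⊤)) where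
  U : X.affineOpens
  e : Γ(L, U.1)
  he : PicLib.IsGen L U.1 e
  d : Γ(X, U.1)
  c : Γ(X, U.1)
  hd : d ∈ Mero.regSub X U.1
  hc : c ∈ Mero.regSub X U.1
  hw : Wit L s U.1 d (c • e)

theorem exists_frame (hL : PicF.IsInvertible L) (hs : Mero.IsRegularMero L s) (x : X) :
    ∃ F : Frame L s, x ∈ F.U.1 := by
  obtain ⟨U₀, hx₀, e₀, he₀⟩ := exists_isGen hL x
  obtain ⟨V, hxV, b, hb, m₀, hm₀⟩ := exists_mem_denomIdeal s x
  obtain ⟨U, hU, hxU, hUV⟩ := exists_isAffineOpen_mem_and_subset (x := x) (U := V ⊓ U₀) ⟨hxV, hx₀⟩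
  have hUV' : U ≤ V := fun z hz => (hUV hz).1
  have hU₀ : U ≤ U₀ := fun z hz => (hUV hz).2
  have hd : PicLib.res hUV' b ∈ Mero.regSub X U := Mero.regSub_res (homOfLE hUV') hb
  let e : Γ(L, U) := resM L hU₀ e₀
  have he : PicLib.IsGen L U e := he₀.restrict hU₀
  have hw : Wit L s U (PicLib.res hUV' b) (resM L hUV' m₀) := Wit.res hUV' hm₀
  obtain ⟨c, hc⟩ := (he U le_rfl).2 (resM L hUV' m₀)
  simp only [resM_self] at hc
  rw [← hc] at hw
  refine ⟨⟨⟨U, hU⟩, e, he, PicLib.res hUV' b, c, hd, fun y => ?_, hw⟩, hxU⟩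
  rw [mem_nonZeroDivisors_iff_right]
  intro z hz
  have h1 := congrArg (fun q => z • q) (hw y)
  dsimp only at h1
  rw [smul_smul, QCohLoc.germ_smul', ← map_smul, smul_smul, hz, zero_smul, map_zero] at h1
  have h2 : algebraMap (X.presheaf.stalk y.1) (Mero.KStalk X y.1)
      (z * X.presheaf.germ U y.1 y.2 (PicLib.res hUV' b)) = 0 :=
    hs y.1 _ (by rw [algebraMap_smul]; exact h1)
  exact mem_nonZeroDivisors_iff_right.1 (hd y) z
    (Mero.algebraMap_KStalk_injective y.1 (h2.trans (map_zero _).symm))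

/-- Two witnesses in frames `e`, `e' = u e` are proportional. -/
theorem Wit.cross (hL : PicF.IsInvertible L) {U : X.Opens} {e : Γ(L, U)} (he : PicLib.IsGen L U e)
    {d c d' c' u : Γ(X, U)} (h : Wit L s U d (c • e)) (h' : Wit L s U d' (c' • u • e)) :
    d' * c = d * (c' * u) := by
  have h1 : Wit L s U (d' * d) ((d' * c) • e) := by rw [mul_smul]; exact h.smul d'
  have h2 : Wit L s U (d' * d) ((d * (c' * u)) • e) := by
    rw [mul_comm d' d, mul_smul, mul_smul]; exact h'.smul d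
  exact (he U le_rfl).1 (by simpa only [resM_self] using Wit.unique hL h1 h2)

section BlowUp

variable {X' : Scheme.{u}} {b : X' ⟶ X} {I : X.IdealSheafData}

/-- Transport of functions to `V`. -/
def pull (b : X' ⟶ X) {U : X.Opens} {V : X'.Opens} (h : V ≤ b ⁻¹ᵁ U) : Γ(X, U) →+* Γ(X', V) :=
  (b.appLE U V h).hom

theorem res_pull {U : X.Opens} {V W : X'.Opens} (h : V ≤ b ⁻¹ᵁ U) (hWV : W ≤ V) (a : Γ(X, U)) :
    PicLib.res hWV (pull b h a) = pull b (hWV.trans h) a :=
  ConcreteCategory.congr_hom (Scheme.Hom.appLE_map b h (homOfLE hWV).op) a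

theorem pull_res {U U' : X.Opens} {W : X'.Opens} (hU : U' ≤ U) (h : W ≤ b ⁻¹ᵁ U') (a : Γ(X, U)) :
    pull b h (PicLib.res hU a) = pull b (h.trans (b.preimage_mono hU)) a :=
  ConcreteCategory.congr_hom (Scheme.Hom.map_appLE b h (homOfLE hU).op) a

theorem pull_nzd (hb : BlowUp.IsBlowUp b I) {U : X.Opens} {V : X'.Opens} (h : V ≤ b ⁻¹ᵁ U) {a : Γ(X, U)}
    (ha : a ∈ Mero.regSub X U) : pull b h a ∈ nonZeroDivisors Γ(X', V) := by
  refine mem_nonZeroDivisors_of_regSub ?_
  have := Mero.regSub_res (homOfLE h) (blowUp_regSub hb ha)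
  exact this

/-- The local generators upstairs. -/
structure Chart (b : X' ⟶ X) (I : X.IdealSheafData) (hL : PicF.IsInvertible L) (s : Γ(Mero.merMod L, ⊤)) where
  F : Frame L s
  V : X'.affineOpens
  hle : V.1 ≤ b ⁻¹ᵁ F.U.1
  ε : Γ(X', V.1)
  γ : Γ(X', V.1)
  hε : ε ∈ nonZeroDivisors Γ(X', V.1)
  hγ : γ ∈ nonZeroDivisors Γ(X', V.1)
  hE : (I.comap b).ideal V = Ideal.span {ε}
  hD : ((twistSheaf (s := s) hL).comap b).ideal V = Ideal.span {γ}
  hrel : pull b hle F.d * γ = pull b hle F.c * ε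

theorem exists_chart (hL : PicF.IsInvertible L) (hs : Mero.IsRegularMero L s)
    (hI : ∀ V : X.affineOpens, I.ideal V = Mero.denomIdeal L s V.1) (hb : BlowUp.IsBlowUp b I) (z : X') :
    ∃ C : Chart b I hL s, z ∈ C.V.1 := by
  obtain ⟨F, hF⟩ := exists_frame hL hs (b z)
  obtain ⟨V, hzV, hle, ε, hε, hE⟩ := ModPairLib.exists_local hb.1 z (b ⁻¹ᵁ F.U.1) hF
  let P := pull b hle
  have hEm : (I.comap b).ideal V = (Mero.denomIdeal L s F.U.1).map P := by
    rw [ProjLib.comap_ideal_eq I b F.U V hle, hI]; rfl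
  have hDm : ((twistSheaf (s := s) hL).comap b).ideal V = (twistIdeal L s F.U.1).map P := by
    rw [ProjLib.comap_ideal_eq _ b F.U V hle]; rfl
  let S : Ideal Γ(X', V.1) :=
    { carrier := {z | ∃ γ ∈ (twistIdeal L s F.U.1).map P, P F.d * γ = P F.c * z}
      zero_mem' := ⟨0, zero_mem _, by rw [mul_zero, mul_zero]⟩
      add_mem' := by
        rintro a a' ⟨γ, hγ, e⟩ ⟨γ', hγ', e'⟩
        exact ⟨γ + γ', add_mem hγ hγ', by rw [mul_add, mul_add, e, e']⟩
      smul_mem' := by
        rintro r a ⟨γ, hγ, e⟩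
        exact ⟨r * γ, Ideal.mul_mem_left _ _ hγ, by rw [smul_eq_mul, mul_left_comm, e, mul_left_comm]⟩ }
  have hsub : (Mero.denomIdeal L s F.U.1).map P ≤ S := Ideal.map_le_iff_le_comap.2 fun f hf => by
    obtain ⟨m, hm⟩ := hf
    obtain ⟨g, hg⟩ := (F.he F.U.1 le_rfl).2 m
    simp only [resM_self] at hg
    have hmw : Wit L s F.U.1 f (g • F.e) := by rw [hg]; exact hm
    refine ⟨P g, Ideal.mem_map_of_mem _ fun t => ?_, ?_⟩
    · obtain ⟨r, hr⟩ := (F.he F.U.1 le_rfl).2 t
      simp only [resM_self] at hr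
      exact ⟨r * f, by rw [← hr, smul_comm]; exact hmw.smul r⟩
    · rw [← map_mul, ← map_mul]
      congr 1
      have h1 : Wit L s F.U.1 (f * F.d) ((f * F.c) • F.e) := by rw [mul_smul]; exact F.hw.smul f
      have h2 : Wit L s F.U.1 (f * F.d) ((F.d * g) • F.e) := by
        rw [mul_comm f, mul_smul]; exact hmw.smul F.d
      have := (F.he F.U.1 le_rfl).1 (by simpa only [resM_self] using Wit.unique hL h2 h1)
      rw [this, mul_comm]
  obtain ⟨γ, hγD, hrel⟩ := hsub (hEm ▸ hE.ge (Ideal.mem_span_singleton_self ε))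
  have hγ : γ ∈ nonZeroDivisors Γ(X', V.1) :=
    (mul_mem_nonZeroDivisors.1 (hrel ▸ mul_mem (pull_nzd hb hle F.hc) hε)).2
  refine ⟨⟨F, V, hle, ε, γ, hε, hγ, hE, ?_, hrel⟩, hzV⟩
  rw [hDm]
  refine le_antisymm (Ideal.map_le_iff_le_comap.2 fun g hg => ?_) ((Ideal.span_singleton_le_iff_mem _).2 hγD)
  obtain ⟨f, hf⟩ := hg F.e
  obtain ⟨a, ha⟩ := Ideal.mem_span_singleton'.1 (hE.le (hEm ▸ Ideal.mem_map_of_mem P hf.mem))
  refine Ideal.mem_span_singleton'.2 ⟨a, (mul_cancel_left_mem_nonZeroDivisors (pull_nzd hb hle F.hd)).1 ?_⟩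
  have h1 : Wit L s F.U.1 (f * F.d) ((f * F.c) • F.e) := by rw [mul_smul]; exact F.hw.smul f
  have h2 : Wit L s F.U.1 (f * F.d) ((F.d * g) • F.e) := by rw [mul_comm f, mul_smul]; exact hf.smul F.d
  have h3 : F.d * g = f * F.c := (F.he F.U.1 le_rfl).1 (by simpa only [resM_self] using Wit.unique hL h2 h1)
  rw [mul_left_comm, show pull b hle F.d * γ = _ from hrel, mul_left_comm, ha]
  show P F.c * P f = P F.d * P g
  rw [← map_mul, ← map_mul, h3, mul_comm]

variable {hL : PicF.IsInvertible L}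

theorem Chart.gamma_mem (C : Chart b I hL s) :
    C.γ ∈ RingHom.ker (((twistSheaf (s := s) hL).comap b).subschemeι.app C.V.1).hom := by
  rw [Scheme.IdealSheafData.ker_subschemeι_app, C.hD]
  exact Ideal.mem_span_singleton_self _

/-- The frame of the ideal of `E`. -/
theorem Chart.exists_tgt (C : Chart b I hL s) : ∃ k : Γ(ClSub.idealMod (I.comap b), C.V.1),
    (ClSub.idealModι (I.comap b)).app C.V.1 k = C.ε ∧ PicLib.IsGen (ClSub.idealMod (I.comap b)) C.V.1 k := by
  obtain ⟨k, hk⟩ := (mem_range_idealModι (I.comap b) C.V.1 C.ε).2 (RingHom.mem_ker.1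
    (((I.comap b).ker_subschemeι_app C.V).symm ▸ C.hE.ge (Ideal.mem_span_singleton_self _)))
  exact ⟨k, hk, FlatMor12.IdealModGen.bijective_smul_of_affine_gen _ C.V.2 hk
    (fun a c (h : C.ε * a = C.ε * c) => (mul_cancel_left_mem_nonZeroDivisors C.hε).1 h) C.hE⟩

/-- The frame of the ideal of `D`. -/
theorem Chart.exists_src (C : Chart b I hL s) : ∃ k : Γ(ClSub.idealMod ((twistSheaf (s := s) hL).comap b), C.V.1),
    (ClSub.idealModι ((twistSheaf (s := s) hL).comap b)).app C.V.1 k = C.γ ∧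
      PicLib.IsGen (ClSub.idealMod ((twistSheaf (s := s) hL).comap b)) C.V.1 k := by
  obtain ⟨k, hk⟩ := (mem_range_idealModι _ C.V.1 C.γ).2 (RingHom.mem_ker.1 C.gamma_mem)
  exact ⟨k, hk, FlatMor12.IdealModGen.bijective_smul_of_affine_gen _ C.V.2 hk
    (fun a c (h : C.γ * a = C.γ * c) => (mul_cancel_left_mem_nonZeroDivisors C.hγ).1 h) C.hD⟩

theorem main (hL : PicF.IsInvertible L) (hs : Mero.IsRegularMero L s)
    (hI : ∀ V : X.affineOpens, I.ideal V = Mero.denomIdeal L s V.1) (hb : BlowUp.IsBlowUp b I) :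
    ∃ 𝓓 : X'.IdealSheafData, BlowUp.IsEffCartierIdeal 𝓓 ∧
      Nonempty (CohB1.tensorMod ((Scheme.Modules.pullback b).obj L) (ClSub.idealMod 𝓓) ≅
        ClSub.idealMod (I.comap b)) := by
  let D := (twistSheaf (s := s) hL).comap b
  choose C hC using exists_chart hL hs hI hb
  refine ⟨D, fun z => ⟨(C z).V, hC z, (C z).γ, (C z).hγ, (C z).hD⟩, ?_⟩
  choose kE hkE hgE using fun z => (C z).exists_tgt
  choose kD hkD hgD using fun z => (C z).exists_src
  let src : ∀ z, Γ(CohB1.tensorMod ((Scheme.Modules.pullback b).obj L) (ClSub.idealMod D), (C z).V.1) :=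
    fun z => tmul (resM _ (C z).hle (pullSec b (C z).F.e)) (kD z)
  have hsrc : ∀ z, PicLib.IsGen _ (C z).V.1 (src z) := fun z =>
    isGen_tmul ((isGen_pullSec b (C z).F.he hL).restrict _) (hgD z)
  obtain ⟨e, -⟩ := exists_iso_of_gens (fun z => (C z).V.1)
    (eq_top_iff.2 fun z _ => Opens.mem_iSup.2 ⟨z, hC z⟩) src hsrc kE hgE (fun i j W hi hj c hc => by
    refine AmpleLib.sec_ext _ _ _ fun z hz => ?_
    set Fi := (C i).F
    set Fj := (C j).F
    obtain ⟨U, hU, hzU, hUle⟩ := Opens.isBasis_iff_nbhd.mp X.isBasis_affineOpens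
      (show b z ∈ Fi.U.1 ⊓ Fj.U.1 from ⟨(C i).hle (hi hz), (C j).hle (hj hz)⟩)
    obtain ⟨W', hW', hzW', hle'⟩ := Opens.isBasis_iff_nbhd.mp X'.isBasis_affineOpens
      (show z ∈ W ⊓ b ⁻¹ᵁ U from ⟨hz, hzU⟩)
    have hW'W : W' ≤ W := hle'.trans inf_le_left
    have hW'U : W' ≤ b ⁻¹ᵁ U := hle'.trans inf_le_right
    have hUi : U ≤ Fi.U.1 := hUle.trans inf_le_left
    have hUj : U ≤ Fj.U.1 := hUle.trans inf_le_right
    refine ⟨W', hW'W, hzW', ?_⟩
    -- downstairs
    have hej := Fj.he.restrict hUj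
    obtain ⟨u, hu⟩ := (hej U le_rfl).2 (resM L hUi Fi.e)
    simp only [resM_self] at hu
    have wj := Fj.hw.res hUj
    have wi := Fi.hw.res hUi
    rw [resM_smul] at wj wi
    rw [← hu] at wi
    have hx := Wit.cross hL hej wj wi
    -- upstairs
    have hiW : W' ≤ (C i).V.1 := hW'W.trans hi
    have hjW : W' ≤ (C j).V.1 := hW'W.trans hj
    have hEi := ModPairLib.ideal_restrict (I.comap b) (V := ⟨W', hW'⟩) hiW (C i).hE
    have hEj := ModPairLib.ideal_restrict (I.comap b) (V := ⟨W', hW'⟩) hjW (C j).hE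
    obtain ⟨v, hv⟩ := Ideal.mem_span_singleton'.1 (hEj.le (hEi.ge (Ideal.mem_span_singleton_self _)))
    set εi : Γ(X', W') := PicLib.res hiW (C i).ε
    set εj : Γ(X', W') := PicLib.res hjW (C j).ε
    set γi : Γ(X', W') := PicLib.res hiW (C i).γ
    set γj : Γ(X', W') := PicLib.res hjW (C j).γ
    let P := pull b hW'U
    set di := P (PicLib.res hUi Fi.d)
    set dj := P (PicLib.res hUj Fj.d)
    set ci := P (PicLib.res hUi Fi.c)
    set cj := P (PicLib.res hUj Fj.c)
    have hv' : v * εj = εi := hv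
    have hri : di * γi = ci * εi := by
      have := congrArg (PicLib.res hiW) (C i).hrel
      rw [map_mul, map_mul, res_pull, res_pull] at this
      simp only [di, ci, P, pull_res]
      exact this
    have hrj : dj * γj = cj * εj := by
      have := congrArg (PicLib.res hjW) (C j).hrel
      rw [map_mul, map_mul, res_pull, res_pull] at this
      simp only [dj, cj, P, pull_res]
      exact this
    have hx' : di * cj = dj * (ci * P u) := by
      simpa only [map_mul] using congrArg P hx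
    have hn : di * dj ∈ nonZeroDivisors Γ(X', W') := mul_mem
      (pull_nzd hb _ (Mero.regSub_res (homOfLE hUi) Fi.hd)) (pull_nzd hb _ (Mero.regSub_res (homOfLE hUj) Fj.hd))
    have huv : P u * γi = v * γj := by
      refine (mul_cancel_left_mem_nonZeroDivisors hn).1 ?_
      calc di * dj * (P u * γi) = dj * P u * (di * γi) := by ring
        _ = dj * (ci * P u) * εi := by rw [hri]; ring
        _ = v * di * (cj * εj) := by rw [← hx', ← hv']; ring
        _ = di * dj * (v * γj) := by rw [← hrj]; ring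
    have hD : P u • resM _ hiW (kD i) = v • resM _ hjW (kD j) := by
      haveI := mono_idealModι D
      refine app_injective_of_mono (ClSub.idealModι D) W' ?_
      rw [Scheme.Modules.Hom.app_smul, Scheme.Modules.Hom.app_smul, app_resM, app_resM, hkD, hkD]
      exact huv
    have hE : resM _ hiW (kE i) = v • resM _ hjW (kE j) := by
      haveI := mono_idealModι (I.comap b)
      refine app_injective_of_mono (ClSub.idealModι (I.comap b)) W' ?_
      rw [Scheme.Modules.Hom.app_smul, app_resM, app_resM, hkE, hkE]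
      exact hv'.symm
    have hsrcW : resM _ hiW (src i) = v • resM _ hjW (src j) := by
      have hp : resM _ hiW (resM _ (C i).hle (pullSec b Fi.e)) =
          P u • resM _ hjW (resM _ (C j).hle (pullSec b Fj.e)) := by
        have h1 := congrArg (fun t => resM _ hW'U (pullSec b t)) hu
        rw [pullSec_smul, resM_smul, ← resM_pullSec b hUi, ← resM_pullSec b hUj, resM_resM, resM_resM] at h1
        rw [resM_resM, resM_resM]
        refine h1.symm.trans (congrArg (· • _) ?_)
        exact ConcreteCategory.congr_hom (Scheme.Hom.app_eq_appLE b ▸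
          Scheme.Hom.appLE_map b le_rfl (homOfLE hW'U).op) u
      show resM _ hiW (tmul _ _) = v • resM _ hjW (tmul _ _)
      rw [resM_tmul, resM_tmul, hp, tmul_smul_left, ← tmul_smul_right, hD, tmul_smul_right]
    have hcv : PicLib.res hW'W c = v := by
      have h1 := congrArg (resM _ hW'W) hc
      rw [resM_smul, resM_resM, resM_resM] at h1
      exact (hsrc j _ _).1 (h1.symm.trans hsrcW)
    rw [resM_smul, resM_resM, resM_resM]
    show _ = PicLib.res hW'W c • _
    rw [hcv]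
    exact hE)
  exact ⟨e⟩

end BlowUp

end Groth.Agent.DenomTwist28
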